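import Mathlib

/-!
# Relators as words in letters with named inverses

A map of generators to words in letters sends an element of a free group to the word got from its
reduced word, with adjacent opposite letters cancelled; its product is the element's image.
-/

set_option autoImplicit false

namespace Cfsg.Lib.CosetEnum.Signed

/-- The opposite of a letter below `k + k`. -/
def flipAt (k g : ℕ) : ℕ := if g < k then g + k else g - k

/-- Put a letter in front of a word, cancelling it against the opposite letter. -/
def consCancel (k g : ℕ) : List ℕ → List ℕ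
  | [] => [g]
  | a :: w => if a = flipAt k g then w else g :: a :: w

/-- Cancel adjacent opposite letters. -/
def cancelWord (k : ℕ) (w : List ℕ) : List ℕ := w.foldr (consCancel k) []

/-- A signed generator as a word. -/
def signedLetters {β : Type*} (k : ℕ) (gw : β → List ℕ) (p : β × Bool) : List ℕ :=
  cond p.2 (gw p.1) ((gw p.1).reverse.map (flipAt k))

/-- The word in the letters of an element of a free group. -/
def relatorWord {β : Type*} [DecidableEq β] (k : ℕ) (gw : β → List ℕ) (r : FreeGroup β) : List ℕ :=
  cancelWord k (r.toWord.flatMap (signedLetters k gw))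

variable {G : Type*} [Group G] {k : ℕ} {e : ℕ → G}

theorem flipAt_lt {g : ℕ} (hg : g < k + k) : flipAt k g < k + k := by
  unfold flipAt; split <;> omega

theorem map_flipAt {g : ℕ} (he : ∀ g < k, e g * e (g + k) = 1) (hg : g < k + k) :
    e (flipAt k g) = (e g)⁻¹ := by
  unfold flipAt
  split
  · exact eq_inv_of_mul_eq_one_right (he g ‹_›)
  · refine eq_inv_of_mul_eq_one_left ?_
    have := he (g - k) (by omega)
    rwa [Nat.sub_add_cancel (by omega)] at this

theorem consCancel_prod (he : ∀ g < k, e g * e (g + k) = 1) {g : ℕ} (hg : g < k + k) :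
    ∀ w : List ℕ, ((consCancel k g w).map e).prod = e g * (w.map e).prod
  | [] => by simp [consCancel]
  | a :: w => by
    rw [consCancel]
    split
    · rename_i h
      simp [h, map_flipAt he hg]
    · simp

theorem consCancel_lt {g : ℕ} (hg : g < k + k) {w : List ℕ} (hw : ∀ a ∈ w, a < k + k) :
    ∀ a ∈ consCancel k g w, a < k + k := by
  cases w with
  | nil => simpa [consCancel] using hg
  | cons b w =>
    rw [consCancel]
    split
    · exact fun a ha => hw a (List.mem_cons_of_mem _ ha)
    · exact fun a ha => (List.mem_cons.1 ha).elim (fun e => e ▸ hg) (hw a)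

theorem cancelWord_spec (he : ∀ g < k, e g * e (g + k) = 1) :
    ∀ w : List ℕ, (∀ a ∈ w, a < k + k) →
      (∀ a ∈ cancelWord k w, a < k + k) ∧ ((cancelWord k w).map e).prod = (w.map e).prod
  | [], _ => ⟨by simp [cancelWord], rfl⟩
  | g :: w, hw => by
    obtain ⟨h1, h2⟩ := cancelWord_spec he w fun a ha => hw a (List.mem_cons_of_mem _ ha)
    have hg : g < k + k := hw g (by simp)
    have e1 : cancelWord k (g :: w) = consCancel k g (cancelWord k w) := rfl
    rw [e1, consCancel_prod he hg, h2, List.map_cons, List.prod_cons]
    exact ⟨consCancel_lt hg h1, rfl⟩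

theorem inverse_word_prod (he : ∀ g < k, e g * e (g + k) = 1) :
    ∀ w : List ℕ, (∀ a ∈ w, a < k + k) →
      ((w.reverse.map (flipAt k)).map e).prod = ((w.map e).prod)⁻¹
  | [], _ => by simp
  | g :: w, hw => by
    have := inverse_word_prod he w fun a ha => hw a (List.mem_cons_of_mem _ ha)
    simp only [List.reverse_cons, List.map_append, List.map_cons, List.map_nil, List.prod_append,
      List.prod_cons, List.prod_nil, mul_one, mul_inv_rev] at this ⊢
    rw [this, map_flipAt he (hw g (by simp))]

/-- The word of an element multiplies to its image. -/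
theorem relatorWord_spec {β : Type*} [DecidableEq β] (he : ∀ g < k, e g * e (g + k) = 1)
    (gw : β → List ℕ) (hgw : ∀ b, ∀ a ∈ gw b, a < k + k) (φ : FreeGroup β →* G)
    (r : FreeGroup β) (hgen : ∀ p ∈ r.toWord, ((gw p.1).map e).prod = φ (FreeGroup.of p.1)) :
    (∀ a ∈ relatorWord k gw r, a < k + k) ∧ ((relatorWord k gw r).map e).prod = φ r := by
  have key : ∀ L : List (β × Bool), (∀ p ∈ L, ((gw p.1).map e).prod = φ (FreeGroup.of p.1)) →
      (∀ a ∈ L.flatMap (signedLetters k gw), a < k + k) ∧
        ((L.flatMap (signedLetters k gw)).map e).prod = φ (FreeGroup.mk L) := by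
    intro L
    induction L with
    | nil => exact fun _ => ⟨by simp, by simp [← FreeGroup.one_eq_mk]⟩
    | cons p L ih =>
      intro hL
      obtain ⟨h1, h2⟩ := ih fun q hq => hL q (List.mem_cons_of_mem _ hq)
      obtain ⟨b, s⟩ := p
      have hb := hL (b, s) (by simp)
      have hmk : FreeGroup.mk ((b, s) :: L) = FreeGroup.mk [(b, s)] * FreeGroup.mk L := by
        rw [FreeGroup.mul_mk]; rfl
      refine ⟨fun a ha => ?_, ?_⟩
      · rcases List.mem_append.1 ha with ha | ha
        · cases s
          · obtain ⟨c, hc, rfl⟩ := List.mem_map.1 ha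
            exact flipAt_lt (hgw b c (List.mem_reverse.1 hc))
          · exact hgw b a ha
        · exact h1 a ha
      rw [List.flatMap_cons, List.map_append, List.prod_append, h2, hmk, map_mul]
      congr 1
      cases s
      · rw [show signedLetters k gw (b, false) = (gw b).reverse.map (flipAt k) from rfl,
          inverse_word_prod he _ (hgw b), hb, ← map_inv]
        simp [FreeGroup.of, FreeGroup.inv_mk, FreeGroup.invRev]
      · exact hb
  obtain ⟨h1, h2⟩ := key r.toWord hgen
  obtain ⟨h3, h4⟩ := cancelWord_spec he _ h1
  refine ⟨h3, h4.trans ?_⟩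
  rw [h2, FreeGroup.mk_toWord]

end Cfsg.Lib.CosetEnum.Signed
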