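import Cfsg.Agent.Lib.CosetEnum.Defs

/-!
# Coset enumeration certificates for generators with named inverses: the checks

The letters come in pairs: the letters `g` and `inv g` stand for inverse elements. A fact
`(u, g, v)` read backwards is a fact `(v, inv g, u)`.
-/

set_option autoImplicit false

namespace Cfsg.Lib.CosetEnum.Signed

/-- The opposite of a letter, `k` being the number of pairs; other labels stay. -/
noncomputable def opp (k g : Nat) : Nat :=
  cond (Nat.blt g k) (g + k) (cond (Nat.blt g (k + k)) (g - k) g)

/-- Follow facts from a node; returns the end node and the word read. -/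
noncomputable def walkS (k : Nat) (F : Tab) (bound : Nat) : List Nat → Nat → Option (Nat × List Nat)
  | [], cur => some (cur, [])
  | r :: rs, cur =>
    cond (Nat.blt r bound)
      (force (F.getP r) fun f =>
        cond (Nat.beq (fu f) cur)
          (force (fv f) fun nx => match walkS k F bound rs nx with
            | some (e, w) => some (e, consG (fg f) w)
            | none => none)
          (cond (Nat.beq (fv f) cur)
            (force (fu f) fun nx => match walkS k F bound rs nx with
              | some (e, w) => some (e, consG (opp k (fg f)) w)
              | none => none)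
            none))
      none

/-- Check a derived fact: a relation word read from a node, with one gap. -/
noncomputable def stepOKS (k : Nat) (R U : List (List Nat)) (F : Tab) (i : Nat) : List Nat → Bool
  | j :: s :: p :: refs =>
    (Nat.blt j R.length || Nat.beq s 0) &&
      match walkS k F i (refs.take p) s, walkS k F i (refs.drop p) s with
      | some (u, w), some (v, w') =>
        Nat.beq (fu (F.getP i)) u && Nat.beq (fv (F.getP i)) v &&
          beqW (w ++ consG (fg (F.getP i)) (w'.map (opp k)).reverse) ((R ++ U).getD j [eps])
      | _, _ => false
  | _ => false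

/-- Check a range of derived facts. -/
noncomputable def stepsOKS (k : Nat) (R U : List (List Nat)) (F C : Tab) (d : Nat) :
    Nat → Nat → Bool
  | 0, _ => true
  | m + 1, j => force j fun j =>
      stepOKS k R U F (d + j) (digits 400 (C.get j)) && stepsOKS k R U F C d m (j + 1)

/-- One edge of the table is a proved fact, in either direction. -/
noncomputable def edgeOKS (k : Nat) (F : Tab) (bound n g i t r : Nat) : Bool :=
  Nat.blt t n && Nat.blt r bound && force (F.getP r) fun f =>
    (Nat.beq (fg f) g && Nat.beq (fu f) i && Nat.beq (fv f) t) ||
      (Nat.beq (opp k (fg f)) g && Nat.beq (fv f) i && Nat.beq (fu f) t)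

/-- Check that the letters in `S` keep the representatives in place. -/
noncomputable def closedOKS (k : Nat) (F Z P : Tab) (bound n : Nat) (S : List Nat) :
    Nat → Nat → Bool
  | 0, _ => true
  | m + 1, i => force i fun i =>
      (S.all fun g => edgeOKS k F bound n g i (img P (k + k) g i) (Z.getP (i * (k + k) + g))) &&
        closedOKS k F Z P bound n S m (i + 1)

/-- Check that a range of facts carries letters below `2 * k`. -/
noncomputable def labsOK (k : Nat) (F : Tab) : Nat → Nat → Bool
  | 0, _ => true
  | m + 1, i => force i fun i => Nat.blt (fg (F.getP i)) (k + k) && labsOK k F m (i + 1)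

/-- A certificate for a bound on the index of one subgroup in another. -/
structure Cert where
  /-- Relator words. -/
  R : List (List Nat)
  /-- Subgroup words. -/
  U : List (List Nat)
  /-- The letters of the larger group. -/
  S : List Nat
  /-- Facts. -/
  F : Tab
  /-- Steps. -/
  C : Tab
  /-- Closing facts. -/
  Z : Tab
  /-- The table. -/
  P : Tab
  /-- Number of node definitions. -/
  d : Nat
  /-- Number of steps. -/
  e : Nat
  /-- The bound. -/
  n : Nat
  /-- The number of pairs of letters. -/
  k : Nat

/-- The checks on a certificate. -/
structure Cert.Valid (c : Cert) : Prop where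
  pos : (Nat.blt 0 c.n && Nat.ble (c.k + c.k) eps &&
    c.S.all fun g => Nat.blt g (c.k + c.k) && c.S.any fun h => Nat.beq h (opp c.k g)) = true
  defs : defsOK c.F c.d 0 = true
  labs : labsOK c.k c.F c.d 0 = true
  steps : stepsOKS c.k c.R c.U c.F c.C c.d c.e 0 = true
  closed : closedOKS c.k c.F c.Z c.P (c.d + c.e) c.n c.S c.n 0 = true

/-- Chunks of derived facts can be checked separately. -/
theorem stepsOKS_append {k : Nat} {R U : List (List Nat)} {F C : Tab} {d : Nat} : ∀ {m n j : Nat},
    stepsOKS k R U F C d m j = true → stepsOKS k R U F C d n (j + m) = true →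
      stepsOKS k R U F C d (m + n) j = true
  | 0, n, j, _, h => by simpa using h
  | m + 1, n, j, h, h' => by
    rw [stepsOKS, force_eq, Bool.and_eq_true] at h
    rw [show m + 1 + n = (m + n) + 1 by omega, stepsOKS, force_eq, Bool.and_eq_true]
    exact ⟨h.1, stepsOKS_append h.2 (by rwa [show j + 1 + m = j + (m + 1) by omega])⟩

/-- Chunks of closure checks can be checked separately. -/
theorem closedOKS_append {k : Nat} {F Z P : Tab} {bound n : Nat} {S : List Nat} :
    ∀ {a b i : Nat}, closedOKS k F Z P bound n S a i = true →
      closedOKS k F Z P bound n S b (i + a) = true →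
      closedOKS k F Z P bound n S (a + b) i = true
  | 0, b, i, _, h => by simpa using h
  | a + 1, b, i, h, h' => by
    rw [closedOKS, force_eq, Bool.and_eq_true] at h
    rw [show a + 1 + b = (a + b) + 1 by omega, closedOKS, force_eq, Bool.and_eq_true]
    exact ⟨h.1, closedOKS_append h.2 (by rwa [show i + 1 + a = i + (a + 1) by omega])⟩

/-- Chunks of label checks can be checked separately. -/
theorem labsOK_append {k : Nat} {F : Tab} : ∀ {a b i : Nat},
    labsOK k F a i = true → labsOK k F b (i + a) = true → labsOK k F (a + b) i = true
  | 0, b, i, _, h => by simpa using h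
  | a + 1, b, i, h, h' => by
    rw [labsOK, force_eq, Bool.and_eq_true] at h
    rw [show a + 1 + b = (a + b) + 1 by omega, labsOK, force_eq, Bool.and_eq_true]
    exact ⟨h.1, labsOK_append h.2 (by rwa [show i + 1 + a = i + (a + 1) by omega])⟩

end Cfsg.Lib.CosetEnum.Signed
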