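import Mathlib
import Cfsg.Agent.Lib.CosetEnum.Signed.Defs
import Cfsg.Agent.Lib.CosetEnum.Check

/-!
# Soundness of certificates for generators with named inverses
-/

set_option autoImplicit false

namespace Cfsg.Lib.CosetEnum.Signed

variable {G α : Type*} [Group G] [MulAction G α]

/-- Opposite letters are inverse elements. -/
def Paired (k : ℕ) (x : ℕ → G) : Prop := ∀ g < k, x g * x (g + k) = 1

theorem opp_opp (k g : ℕ) : opp k (opp k g) = g := by
  have h : ∀ a b, (Nat.blt a b = true ↔ a < b) := fun a b => by rw [Nat.blt_eq]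
  unfold opp
  cases h1 : Nat.blt g k with
  | true =>
    rw [h] at h1
    have e1 : Nat.blt (g + k) k = false := Bool.eq_false_iff.2 fun e => by rw [h] at e; omega
    have e2 : Nat.blt (g + k) (k + k) = true := (h _ _).2 (by omega)
    simp [e1, e2]
  | false =>
    have h1' : ¬ g < k := fun e => by rw [(h _ _).2 e] at h1; simp at h1
    cases h2 : Nat.blt g (k + k) with
    | true =>
      rw [h] at h2
      have e1 : Nat.blt (g - k) k = true := (h _ _).2 (by omega)
      simp [e1]; omega
    | false => simp [h1, h2]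

theorem gen_opp {k : ℕ} {x : ℕ → G} (hx : Paired k x) (hk : k + k ≤ eps) {g : ℕ}
    (hg : g < k + k ∨ g = eps) : gen x (opp k g) = (gen x g)⁻¹ := by
  have hb : ∀ a b, (Nat.blt a b = true ↔ a < b) := fun a b => by rw [Nat.blt_eq]
  rcases hg with hg | rfl
  · rw [gen, gen, if_neg (show g ≠ eps by omega)]
    by_cases h : g < k
    · rw [show opp k g = g + k by simp [opp, (hb _ _).2 h], if_neg (by omega)]
      exact eq_inv_of_mul_eq_one_right (hx g h)
    · have e1 : Nat.blt g k = false := Bool.eq_false_iff.2 fun e => h ((hb _ _).1 e)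
      rw [show opp k g = g - k by simp [opp, e1, (hb _ _).2 hg], if_neg (by omega)]
      refine eq_inv_of_mul_eq_one_left ?_
      have := hx (g - k) (by omega)
      rwa [Nat.sub_add_cancel (Nat.le_of_not_lt h)] at this
  · have e : opp k eps = eps := by
      have e1 : Nat.blt eps k = false := Bool.eq_false_iff.2 fun e => by rw [hb] at e; omega
      have e2 : Nat.blt eps (k + k) = false := Bool.eq_false_iff.2 fun e => by rw [hb] at e; omega
      simp [opp, e1, e2]
    rw [e]; simp [gen]

/-- Letters of the labels used. -/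
def Lab (k g : ℕ) : Prop := g < k + k ∨ g = eps

theorem lab_opp {k g : ℕ} (hk : k + k ≤ eps) (h : Lab k g) : Lab k (opp k g) := by
  have hb : ∀ a b, (Nat.blt a b = true ↔ a < b) := fun a b => by rw [Nat.blt_eq]
  rcases h with h | rfl
  · left
    unfold opp
    cases h1 : Nat.blt g k with
    | true => rw [hb] at h1; simp; omega
    | false => rw [(hb _ _).2 h]; simp; omega
  · right
    have e1 : Nat.blt eps k = false := Bool.eq_false_iff.2 fun e => by rw [hb] at e; omega
    have e2 : Nat.blt eps (k + k) = false := Bool.eq_false_iff.2 fun e => by rw [hb] at e; omega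
    simp [opp, e1, e2]

theorem act_opp_reverse {k : ℕ} {x : ℕ → G} (hx : Paired k x) (hk : k + k ≤ eps) :
    ∀ {w : List ℕ}, (∀ g ∈ w, Lab k g) → ∀ q : α,
      act x (w.map (opp k)).reverse (act x w q) = q
  | [], _, _ => rfl
  | g :: w, h, q => by
    rw [List.map_cons, List.reverse_cons, act_append, act_cons (q := q),
      act_opp_reverse hx hk (w := w) fun a ha => h a (by simp [ha])]
    simp [gen_opp hx hk (h g (by simp))]

/-- The facts below `bound` hold and carry proper labels. -/
def HoldsS (k : ℕ) (x : ℕ → G) (F : Tab) (φ : ℕ → α) (bound : ℕ) : Prop :=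
  ∀ r < bound, Lab k (fg (F.getP r)) ∧
    gen x (fg (F.getP r)) • φ (fu (F.getP r)) = φ (fv (F.getP r))

theorem consG_lab {k g : ℕ} (hg : Lab k g) {w : List ℕ} (hw : ∀ a ∈ w, Lab k a) :
    ∀ a ∈ consG g w, Lab k a := by
  intro a ha
  unfold consG at ha
  cases h : Nat.beq g eps with
  | true => rw [h, cond_true] at ha; exact hw a ha
  | false =>
    rw [h, cond_false, List.mem_cons] at ha
    rcases ha with rfl | ha
    exacts [hg, hw a ha]

theorem walkS_sound {k : ℕ} {x : ℕ → G} (hx : Paired k x) (hk : k + k ≤ eps) {F : Tab}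
    {φ : ℕ → α} {bound : ℕ} (h : HoldsS k x F φ bound) :
    ∀ {rs : List ℕ} {cur e : ℕ} {w : List ℕ}, walkS k F bound rs cur = some (e, w) →
      (∀ a ∈ w, Lab k a) ∧ act x w (φ cur) = φ e
  | [], cur, e, w, hw => by
    simp only [walkS, Option.some.injEq, Prod.mk.injEq] at hw
    rw [← hw.1, ← hw.2]
    exact ⟨by simp, rfl⟩
  | r :: rs, cur, e, w, hw => by
    rw [walkS] at hw
    cases hr : Nat.blt r bound with
    | false => rw [hr] at hw; simp at hw
    | true =>
      rw [hr, cond_true, force_eq] at hw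
      obtain ⟨hl, hf⟩ := h r (by simpa [Nat.blt_eq] using hr)
      cases h1 : Nat.beq (fu (F.getP r)) cur with
      | true =>
        rw [h1, cond_true, force_eq] at hw
        split at hw
        · next e' w' heq =>
          simp only [Option.some.injEq, Prod.mk.injEq] at hw
          obtain ⟨hlab, hact⟩ := walkS_sound hx hk h heq
          rw [← hw.1, ← hw.2, act_consG, ← Nat.eq_of_beq_eq_true h1, hf]
          exact ⟨consG_lab hl hlab, hact⟩
        · simp at hw
      | false =>
        rw [h1, cond_false] at hw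
        cases h2 : Nat.beq (fv (F.getP r)) cur with
        | false => rw [h2] at hw; simp at hw
        | true =>
          rw [h2, cond_true, force_eq] at hw
          split at hw
          · next e' w' heq =>
            simp only [Option.some.injEq, Prod.mk.injEq] at hw
            obtain ⟨hlab, hact⟩ := walkS_sound hx hk h heq
            rw [← hw.1, ← hw.2, act_consG, ← Nat.eq_of_beq_eq_true h2, ← hf, gen_opp hx hk hl,
              inv_smul_smul]
            exact ⟨consG_lab (lab_opp hk hl) hlab, hact⟩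
          · simp at hw

theorem stepOKS_sound {k : ℕ} {x : ℕ → G} (hx : Paired k x) (hk : k + k ≤ eps)
    {R U : List (List ℕ)} (hR : ∀ r ∈ R, ∀ q : α, act x r q = q)
    (hlt : ∀ r ∈ R ++ U, ∀ g ∈ r, Lab k g) {F : Tab} {φ : ℕ → α} {i : ℕ}
    (hU : ∀ r ∈ U, act x r (φ 0) = φ 0) (h : HoldsS k x F φ i) :
    ∀ {c : List ℕ}, stepOKS k R U F i c = true → HoldsS k x F φ (i + 1)
  | [], hc => by simp [stepOKS] at hc
  | [_], hc => by simp [stepOKS] at hc
  | [_, _], hc => by simp [stepOKS] at hc
  | j :: s :: p :: refs, hc => by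
    simp only [stepOKS, Bool.and_eq_true, Bool.or_eq_true] at hc
    obtain ⟨hj, hc⟩ := hc
    split at hc
    · next u w v w' hwu hwv =>
      simp only [Bool.and_eq_true, Nat.beq_eq] at hc
      obtain ⟨⟨hu, hv⟩, hword⟩ := hc
      have hword := beqW_eq hword
      have hrel : act x ((R ++ U).getD j [eps]) (φ s) = φ s ∧
          ∀ a ∈ (R ++ U).getD j [eps], Lab k a := by
        rcases Nat.lt_or_ge j (R ++ U).length with hlt' | hge
        · rw [List.getD_eq_getElem _ _ hlt']
          refine ⟨?_, hlt _ (List.getElem_mem _)⟩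
          rcases Nat.lt_or_ge j R.length with h1 | h1
          · rw [List.getElem_append_left h1]
            exact hR _ (List.getElem_mem h1) _
          · rw [List.getElem_append_right h1]
            rcases hj with hj | hj
            · rw [Nat.blt_eq] at hj; omega
            · rw [Nat.beq_eq] at hj; subst hj
              exact hU _ (List.getElem_mem _)
        · rw [List.getD_eq_default _ _ hge]
          simp [gen, Lab]
      obtain ⟨hrel, hlr⟩ := hrel
      obtain ⟨-, hau⟩ := walkS_sound hx hk h hwu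
      obtain ⟨hl', hav⟩ := walkS_sound hx hk h hwv
      rw [← hword] at hrel hlr
      have hg : Lab k (fg (F.getP i)) := by
        by_cases he : fg (F.getP i) = eps
        · exact Or.inr he
        · refine hlr _ (List.mem_append_right _ ?_)
          have : Nat.beq (fg (F.getP i)) eps = false :=
            Bool.eq_false_iff.2 fun e => he (Nat.eq_of_beq_eq_true e)
          simp [consG, this]
      rw [act_append, hau, act_consG] at hrel
      have h1 := congrArg (act x w') hrel
      rw [hav] at h1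
      have h2 := act_opp_reverse hx hk (w := (w'.map (opp k)).reverse) (fun a ha => by
        rw [List.mem_reverse, List.mem_map] at ha
        obtain ⟨b, hb, rfl⟩ := ha
        exact lab_opp hk (hl' b hb)) (gen x (fg (F.getP i)) • φ u)
      rw [List.map_reverse, List.reverse_reverse, List.map_map,
        show (opp k ∘ opp k) = id from funext (opp_opp k), List.map_id] at h2
      intro r hr
      rcases Nat.lt_succ_iff_lt_or_eq.1 hr with hr | hr
      · exact h r hr
      · subst hr
        refine ⟨hg, ?_⟩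
        rw [hu, hv, ← h2]
        exact h1
    · simp at hc

theorem stepsOKS_sound {k : ℕ} {x : ℕ → G} (hx : Paired k x) (hk : k + k ≤ eps)
    {R U : List (List ℕ)} (hR : ∀ r ∈ R, ∀ q : α, act x r q = q)
    (hlt : ∀ r ∈ R ++ U, ∀ g ∈ r, Lab k g) {F C : Tab} {φ : ℕ → α} {d : ℕ}
    (hU : ∀ r ∈ U, act x r (φ 0) = φ 0) : ∀ {m j : ℕ}, stepsOKS k R U F C d m j = true →
      HoldsS k x F φ (d + j) → HoldsS k x F φ (d + j + m)
  | 0, j, _, h => h
  | m + 1, j, hc, h => by
    rw [stepsOKS, force_eq, Bool.and_eq_true] at hc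
    have := stepsOKS_sound hx hk hR hlt hU (m := m) (j := j + 1) hc.2
      (stepOKS_sound hx hk hR hlt hU h hc.1)
    rwa [show d + (j + 1) + m = d + j + (m + 1) by omega] at this

theorem closedOKS_get {k : ℕ} {F Z P : Tab} {bound n : ℕ} {S : List ℕ} :
    ∀ {m i : ℕ}, closedOKS k F Z P bound n S m i = true → ∀ j, i ≤ j → j < i + m → ∀ g ∈ S,
      ∃ t < n, ∃ r < bound,
        (fg (F.getP r) = g ∧ fu (F.getP r) = j ∧ fv (F.getP r) = t) ∨
          (opp k (fg (F.getP r)) = g ∧ fv (F.getP r) = j ∧ fu (F.getP r) = t)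
  | 0, i, _, j, h1, h2 => by omega
  | m + 1, i, hc, j, h1, h2 => by
    rw [closedOKS, force_eq, Bool.and_eq_true, List.all_eq_true] at hc
    rcases Nat.eq_or_lt_of_le h1 with h | h
    · subst h
      intro g hg
      have := hc.1 g hg
      simp only [edgeOKS, force_eq, Bool.and_eq_true, Bool.or_eq_true, Nat.blt_eq,
        Nat.beq_eq] at this
      obtain ⟨⟨ht, hr⟩, hends⟩ := this
      refine ⟨_, ht, _, hr, hends.imp (fun h => ⟨h.1.1, h.1.2, h.2⟩) fun h => ⟨h.1.1, h.1.2, h.2⟩⟩
    · exact closedOKS_get hc.2 j h (by omega)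

theorem labsOK_get {k : ℕ} {F : Tab} : ∀ {m i : ℕ}, labsOK k F m i = true →
    ∀ j, i ≤ j → j < i + m → fg (F.getP j) < k + k
  | 0, i, _, j, h1, h2 => by omega
  | m + 1, i, hc, j, h1, h2 => by
    rw [labsOK, force_eq, Bool.and_eq_true, Nat.blt_eq] at hc
    rcases Nat.eq_or_lt_of_le h1 with h | h
    · exact h ▸ hc.1
    · exact labsOK_get hc.2 j h (by omega)

/-- A word as a group element, first letter acting first. -/
def val (x : ℕ → G) : List ℕ → G
  | [] => 1
  | g :: w => val x w * gen x g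

theorem act_eq_val (x : ℕ → G) : ∀ (w : List ℕ) (q : α), act x w q = val x w • q
  | [], q => (one_smul G q).symm
  | g :: w, q => by rw [act_cons, act_eq_val x w, val, mul_smul]

/-- A valid certificate bounds the order. -/
theorem Cert.Valid.card_le {c : Cert} (h : c.Valid) {x : ℕ → G} (hx : Paired c.k x)
    (hlt : ((c.R ++ c.U).all fun r => r.all fun g => Nat.blt g (c.k + c.k)) = true)
    (hrel : ∀ r ∈ c.R, val x r = 1) {K : Subgroup G} (hK : ∀ u ∈ c.U, val x u ∈ K) {m : ℕ}
    (hfin : Finite K) (hm : Nat.card K ≤ m) :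
    Finite (Subgroup.closure (x '' {g | g ∈ c.S})) ∧
      Nat.card (Subgroup.closure (x '' {g | g ∈ c.S})) ≤ c.n * m := by
  have hp := h.pos
  simp only [Bool.and_eq_true, Nat.blt_eq, Nat.ble_eq, List.all_eq_true, List.any_eq_true,
    Nat.beq_eq] at hp
  obtain ⟨⟨hn, hk⟩, hS⟩ := hp
  simp only [List.all_eq_true, Nat.blt_eq] at hlt
  set H := Subgroup.closure (x '' {g | g ∈ c.S}) with hH
  have hR : ∀ r ∈ c.R, ∀ q : G ⧸ K, act x r q = q := fun r hr q => by
    rw [act_eq_val, hrel r hr, one_smul]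
  have hU : ∀ r ∈ c.U, act x r ((1 : G) : G ⧸ K) = ((1 : G) : G ⧸ K) := fun r hr => by
    rw [act_eq_val]
    show ((val x r * 1 : G) : G ⧸ K) = ((1 : G) : G ⧸ K)
    rw [QuotientGroup.eq, mul_one, mul_one, inv_mem_iff]
    exact hK r hr
  have hlab : ∀ r ∈ c.R ++ c.U, ∀ g ∈ r, Lab c.k g := fun r hr g hg => Or.inl (hlt r hr g hg)
  obtain ⟨φ, h0, hφ⟩ := exists_labelling x ((1 : G) : G ⧸ K) (F := c.F) (d := c.d)
    fun i hi => defsOK_get h.defs i (Nat.zero_le _) (by omega)
  have hφ' : HoldsS c.k x c.F φ (c.d + 0) := fun r hr =>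
    ⟨Or.inl (labsOK_get h.labs r (Nat.zero_le _) (by omega)), hφ r (by omega)⟩
  have hF := stepsOKS_sound hx hk hR hlab (φ := φ) (by rw [h0]; exact hU) h.steps hφ'
  have hstep : ∀ j < c.n, ∀ g ∈ c.S, ∃ t < c.n, x g • φ j = φ t := by
    intro j hj g hg
    obtain ⟨t, ht, r, hr, hends⟩ := closedOKS_get h.closed j (Nat.zero_le _) (by omega) g hg
    obtain ⟨hl, hf⟩ := hF r (by omega)
    have hge : gen x g = x g := by
      have := (hS g hg).1
      rw [gen, if_neg (by omega)]
    refine ⟨t, ht, ?_⟩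
    rcases hends with ⟨e1, e2, e3⟩ | ⟨e1, e2, e3⟩
    · rwa [e1, e2, e3, hge] at hf
    · rw [← hge, ← e1, gen_opp hx hk hl, ← e2, ← e3, ← hf, inv_smul_smul]
  let A : Set (G ⧸ K) := φ '' {j | j < c.n}
  have hmove : ∀ g ∈ c.S, ∀ a ∈ A, x g • a ∈ A := by
    rintro g hg _ ⟨j, hj, rfl⟩
    obtain ⟨t, ht, htj⟩ := hstep j hj g hg
    exact ⟨t, ht, htj.symm⟩
  have hinv : ∀ g ∈ c.S, ∃ g' ∈ c.S, x g' = (x g)⁻¹ := fun g hg => by
    obtain ⟨hg', g', hg'S, rfl⟩ := hS g hg
    refine ⟨_, hg'S, ?_⟩
    have e := gen_opp hx hk (Or.inl hg')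
    have := (hS _ hg'S).1
    rwa [gen, gen, if_neg (by omega), if_neg (by omega)] at e
  have hA : ∀ h ∈ H, ∀ a ∈ A, h • a ∈ A := by
    intro h hh
    induction hh using Subgroup.closure_induction'' with
    | one => simp
    | mul y z _ _ hy hz => intro a ha; rw [mul_smul]; exact hy _ (hz a ha)
    | mem y hy =>
      obtain ⟨g, hg, rfl⟩ := hy
      exact hmove g hg
    | inv_mem y hy =>
      obtain ⟨g, hg, rfl⟩ := hy
      obtain ⟨g', hg', e⟩ := hinv g hg
      rw [← e]
      exact hmove g' hg'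
  have hsub : MulAction.orbit H ((1 : G) : G ⧸ K) ⊆ A := by
    rintro _ ⟨⟨h, hh⟩, rfl⟩
    exact hA h hh _ ⟨0, hn, h0⟩
  have hAf : A.Finite := (Set.finite_lt_nat c.n).image _
  have hf : (MulAction.orbit H ((1 : G) : G ⧸ K)).Finite := hAf.subset hsub
  have hcn : (MulAction.orbit H ((1 : G) : G ⧸ K)).ncard ≤ c.n := by
    refine (Set.ncard_le_ncard hsub hAf).trans ?_
    refine (Set.ncard_image_le (Set.finite_lt_nat c.n)).trans ?_
    rw [show {j : ℕ | j < c.n} = ↑(Finset.range c.n) by ext; simp, Set.ncard_coe_finset,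
      Finset.card_range]
  have hidx : (MulAction.stabilizer H ((1 : G) : G ⧸ K)).index =
      (MulAction.orbit H ((1 : G) : G ⧸ K)).ncard := MulAction.index_stabilizer _ _
  have hstab : ∀ a : MulAction.stabilizer H ((1 : G) : G ⧸ K), ((a : H) : G) ∈ K := by
    intro a
    have ha : ((((a : H) : G) * 1 : G) : G ⧸ K) = ((1 : G) : G ⧸ K) := a.2
    rw [QuotientGroup.eq, mul_one, mul_one, inv_mem_iff] at ha
    exact ha
  let ι : MulAction.stabilizer H ((1 : G) : G ⧸ K) → K := fun a => ⟨_, hstab a⟩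
  have hι : Function.Injective ι := fun a b hab =>
    Subtype.ext (Subtype.ext (congrArg (fun z : K => (z : G)) hab))
  have : Finite (MulAction.stabilizer H ((1 : G) : G ⧸ K)) := Finite.of_injective ι hι
  have hpos : (MulAction.stabilizer H ((1 : G) : G ⧸ K)).index ≠ 0 := by
    rw [hidx]
    exact ((Set.ncard_pos hf).2 ⟨_, MulAction.mem_orbit_self _⟩).ne'
  have hmul := Subgroup.card_mul_index (MulAction.stabilizer H ((1 : G) : G ⧸ K))
  refine ⟨Nat.finite_of_card_ne_zero ?_, ?_⟩
  · rw [← hmul]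
    exact mul_ne_zero Nat.card_pos.ne' hpos
  · rw [← hmul, hidx, mul_comm c.n]
    exact Nat.mul_le_mul ((Nat.card_le_card_of_injective ι hι).trans hm) hcn

end Cfsg.Lib.CosetEnum.Signed
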